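import Mathlib
import Cfsg.Agent.Eq.Def_Solvable
import Cfsg.Agent.Eq.Def_Transfer
import Cfsg.Agent.Offender.Basic
import Cfsg.Agent.Offender.S4Section
import Cfsg.Agent.Constrained.Fitting
import Cfsg.Agent.GlaubermanZJ.SylowNormal
import Cfsg.Agent.LocalP.ThompsonJ
import Cfsg.Agent.LocalP.Basic
import Cfsg.Agent.Coprime.Stabilizer
import Cfsg.Agent.CharP.PCore

/-!
Thompson factorization for solvable groups without sections of the symmetric group of degree four and
with Sylow 2-subgroups of class at most two.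
-/

set_option autoImplicit false

namespace CfsgLib.Offender

open Cfsg
open scoped commutatorElement

universe u

/-- In a group all of whose elements of the form `z² = 1`, `z` in the centre of a Sylow 2-subgroup inside
`O₂`, are central, the whole Sylow centre is central. -/
theorem sylow_center_central {G : Type u} [Group G] [Finite G] (S : Sylow 2 G) {Q : Subgroup G}
    [Q.Normal] (hQS : Q ≤ S) (hZQ : (S : Subgroup G) ⊓ Subgroup.centralizer ((S : Subgroup G) : Set G) ≤ Q)
    (hZ0 : ∀ z ∈ (S : Subgroup G) ⊓ Subgroup.centralizer ((S : Subgroup G) : Set G), z * z = 1 →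
      z ∈ Subgroup.center G) :
    (S : Subgroup G) ⊓ Subgroup.centralizer ((S : Subgroup G) : Set G) ≤ Subgroup.center G := by
  classical
  haveI : Fact (Nat.Prime 2) := ⟨Nat.prime_two⟩
  set ZS := (S : Subgroup G) ⊓ Subgroup.centralizer ((S : Subgroup G) : Set G) with hZS
  -- the abelian normal subgroup `Z(Q)` contains the Sylow centre
  set V : Subgroup G := Q ⊓ Subgroup.centralizer (Q : Set G) with hV
  have hVc : ∀ a ∈ V, ∀ b ∈ V, a * b = b * a := fun a ha b hb =>
    Subgroup.mem_centralizer_iff.1 hb.2 a ha.1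
  have hZV : ∀ z ∈ ZS, z ∈ V := fun z hz => ⟨hZQ hz, Subgroup.mem_centralizer_iff.2 fun q hq =>
    Subgroup.mem_centralizer_iff.1 hz.2 q (hQS hq)⟩
  haveI hVn : V.Normal := inferInstance
  letI : CommGroup V := { (inferInstance : Group V) with
    mul_comm := fun a b => Subtype.ext (hVc a a.2 b b.2) }
  suffices h : ∀ k : ℕ, ∀ z ∈ ZS, z ^ 2 ^ k = 1 → z ∈ Subgroup.center G by
    intro z hz
    obtain ⟨k, hk⟩ := S.isPGroup' ⟨z, hz.1⟩
    exact h k z hz (by simpa using congrArg Subtype.val hk)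
  intro k
  induction k with
  | zero => intro z _ hk; simp at hk; rw [hk]; exact one_mem _
  | succ k ih =>
    intro z hz hk
    have hz2 : z * z ∈ Subgroup.center G := by
      refine ih _ (mul_mem hz hz) ?_
      rw [← sq, ← pow_mul, ← pow_succ']
      exact hk
    haveI : Fintype (G ⧸ (S : Subgroup G)) := Fintype.ofFinite _
    -- the product of the conjugates
    have hmem : ∀ g : G, g * z * g⁻¹ ∈ V := fun g => hVn.conj_mem z (hZV z hz) g
    let F : G ⧸ (S : Subgroup G) → V := Quotient.lift (fun g : G => (⟨g * z * g⁻¹, hmem g⟩ : V))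
      fun g g' h => by
        have hs : g⁻¹ * g' ∈ (S : Subgroup G) := QuotientGroup.leftRel_apply.1 h
        refine Subtype.ext (show g * z * g⁻¹ = g' * z * g'⁻¹ from ?_)
        have := Subgroup.mem_centralizer_iff.1 hz.2 _ hs
        calc g * z * g⁻¹ = g * (z * (g⁻¹ * g')) * g'⁻¹ := by group
          _ = g * ((g⁻¹ * g') * z) * g'⁻¹ := by rw [this]
          _ = g' * z * g'⁻¹ := by group
    set c : V := ∏ q, F q with hc
    have hcF : ∀ (g : G) (q : G ⧸ (S : Subgroup G)), MulAut.conjNormal g (F q) = F (g • q) := by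
      intro g q
      induction q using QuotientGroup.induction_on with
      | H x =>
        refine Subtype.ext ?_
        rw [MulAut.conjNormal_apply]
        show g * (x * z * x⁻¹) * g⁻¹ = g * x * z * (g * x)⁻¹
        group
    have hcc : (c : G) ∈ Subgroup.center G := by
      rw [Subgroup.mem_center_iff]
      intro g
      have h1 : MulAut.conjNormal g c = c := by
        rw [hc, map_prod]
        exact Fintype.prod_equiv (MulAction.toPerm g) _ _ fun q => hcF g q
      have h2 : g * (c : G) * g⁻¹ = c := by rw [← MulAut.conjNormal_apply, h1]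
      calc g * (c : G) = g * (c : G) * g⁻¹ * g := by group
        _ = (c : G) * g := by rw [h2]
    set n := Nat.card (G ⧸ (S : Subgroup G)) with hn
    have hF2 : ∀ q, F q * F q = (⟨z, hZV z hz⟩ : V) * ⟨z, hZV z hz⟩ := by
      intro q
      induction q using QuotientGroup.induction_on with
      | H x =>
        refine Subtype.ext ?_
        show x * z * x⁻¹ * (x * z * x⁻¹) = z * z
        rw [show x * z * x⁻¹ * (x * z * x⁻¹) = x * (z * z) * x⁻¹ by group,
          Subgroup.mem_center_iff.1 hz2 x, mul_inv_cancel_right]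
    have hc2 : c * c = (⟨z, hZV z hz⟩ : V) ^ n * (⟨z, hZV z hz⟩ : V) ^ n := by
      rw [hc, ← Finset.prod_mul_distrib, Finset.prod_congr rfl fun q _ => hF2 q, Finset.prod_const,
        Finset.card_univ, mul_pow, hn, Nat.card_eq_fintype_card]
    have hu2 : ((c : G)⁻¹ * z ^ n) * ((c : G)⁻¹ * z ^ n) = 1 := by
      have : (c⁻¹ * (⟨z, hZV z hz⟩ : V) ^ n) * (c⁻¹ * (⟨z, hZV z hz⟩ : V) ^ n) = 1 := by
        rw [mul_mul_mul_comm, ← hc2, ← mul_inv_rev, inv_mul_cancel]
      simpa using congrArg Subtype.val this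
    have hcS : (c : G) ∈ ZS := ⟨hQS c.2.1, Subgroup.mem_centralizer_iff.2 fun s _ =>
      Subgroup.mem_center_iff.1 hcc s⟩
    have hu : (c : G)⁻¹ * z ^ n ∈ Subgroup.center G :=
      hZ0 _ (mul_mem (inv_mem hcS) (pow_mem hz n)) hu2
    have hzn : z ^ n ∈ Subgroup.center G := by
      simpa using mul_mem hcc hu
    obtain ⟨j, hj⟩ : Odd n := by
      rw [Nat.odd_iff]
      have := S.not_dvd_index
      rw [Subgroup.index] at this
      omega
    have : z = z ^ n * ((z * z) ^ j)⁻¹ := by
      rw [hj, ← sq, ← pow_mul, pow_succ', mul_assoc, mul_inv_cancel, mul_one]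
    rw [this]
    exact mul_mem hzn (inv_mem (pow_mem hz2 j))

/-- A normal subgroup whose image in a faithful action is a 2-group centralises the conjugates of any
set centralised by the Sylow 2-subgroup. -/
theorem le_of_pGroup_image {G : Type u} [Group G] [Finite G] (S : Sylow 2 G) {C T : Subgroup G}
    [C.Normal] [T.Normal] (hCT : C ≤ T) (hk : ∃ k : ℕ, C.relIndex T = 2 ^ k) (Z : Set G)
    (hSZ : ∀ s ∈ (S : Subgroup G), ∀ z ∈ Z, s * z = z * s)
    (hCZ : ∀ x : G, x ∈ C ↔ ∀ (g : G), ∀ z ∈ Z, x * (g * z * g⁻¹) = g * z * g⁻¹ * x) : T ≤ C := by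
  haveI : Fact (Nat.Prime 2) := ⟨Nat.prime_two⟩
  intro d hd
  obtain ⟨c₀, hc₀, t, htS, htT, rfl⟩ := CfsgLib.GlaubermanZJ.exists_mul_of_relIndex_pow S hCT hk hd
  refine mul_mem hc₀ ((hCZ t).2 fun g z hz => ?_)
  obtain ⟨m, hm, d', hd', rfl⟩ := CfsgLib.GlaubermanZJ.exists_frattini S T g
  obtain ⟨c, hc, s, hsS, -, rfl⟩ := CfsgLib.GlaubermanZJ.exists_mul_of_relIndex_pow S hCT hk hd'
  have hcz : c * z * c⁻¹ = z := by
    have h1 := (hCZ c).1 hc 1 z hz
    simp only [one_mul, inv_one, mul_one] at h1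
    rw [h1, mul_inv_cancel_right]
  have hsz : s * z * s⁻¹ = z := by rw [hSZ s hsS z hz, mul_inv_cancel_right]
  have he : m * (c * s) * z * (m * (c * s))⁻¹ = m * z * m⁻¹ := by
    rw [show m * (c * s) * z * (m * (c * s))⁻¹ = m * (c * (s * z * s⁻¹) * c⁻¹) * m⁻¹ by group,
      hsz, hcz]
  rw [he]
  have h2 : m⁻¹ * t * m ∈ (S : Subgroup G) := ((Subgroup.mem_normalizer_iff''.1 hm t).1 ⟨htS, htT⟩).1
  calc t * (m * z * m⁻¹) = m * ((m⁻¹ * t * m) * z) * m⁻¹ := by group
    _ = m * (z * (m⁻¹ * t * m)) * m⁻¹ := by rw [hSZ _ h2 z hz]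
    _ = m * z * m⁻¹ * t := by group

/-- The case of a central Sylow centre. -/
theorem sylow_eq_pCore_of_central {G : Type u} [Group G] [Finite G] (S : Sylow 2 G)
    (hself : Subgroup.centralizer ((pCore 2 G : Subgroup G) : Set G) ≤ pCore 2 G)
    (hcl : Subgroup.lowerCentralSeries (S : Subgroup G) 2 = ⊥)
    (hZ : (S : Subgroup G) ⊓ Subgroup.centralizer ((S : Subgroup G) : Set G) ≤ Subgroup.center G) :
    (S : Subgroup G) = pCore 2 G := by
  haveI : Fact (Nat.Prime 2) := ⟨Nat.prime_two⟩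
  set Q := pCore 2 G with hQ
  haveI : Q.Normal := inferInstance
  have hQS : Q ≤ S := CfsgLib.CharP.pCore_le_sylow S
  set f := QuotientGroup.mk' (Subgroup.center G)
  set D : Subgroup G := (Subgroup.centralizer ((Q.map f : Subgroup (G ⧸ Subgroup.center G)) :
    Set (G ⧸ Subgroup.center G))).comap f with hD
  have hmem : ∀ {d : G}, d ∈ D ↔ ∀ q ∈ Q, d * q * d⁻¹ * q⁻¹ ∈ Subgroup.center G := by
    intro d
    constructor
    · intro hd q hq
      have h1 := Subgroup.mem_centralizer_iff.1 (Subgroup.mem_comap.1 hd) (f q) ⟨q, hq, rfl⟩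
      refine (QuotientGroup.eq_one_iff _).1 ?_
      show f (d * q * d⁻¹ * q⁻¹) = 1
      simp only [map_mul, map_inv]
      rw [← h1]; group
    · intro h
      refine Subgroup.mem_comap.2 (Subgroup.mem_centralizer_iff.2 ?_)
      rintro _ ⟨q, hq, rfl⟩
      have h1 : f (d * q * d⁻¹ * q⁻¹) = 1 := (QuotientGroup.eq_one_iff _).2 (h q hq)
      simp only [map_mul, map_inv] at h1
      calc f q * f d = (f d * f q * (f d)⁻¹ * (f q)⁻¹) * (f q * f d) := by rw [h1, one_mul]
        _ = f d * f q := by group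
  haveI : (Q.map f).Normal := Subgroup.Normal.map inferInstance f (QuotientGroup.mk'_surjective _)
  haveI : D.Normal := by rw [hD]; infer_instance
  have hSD : (S : Subgroup G) ≤ D := by
    intro s hs
    refine hmem.2 fun q hq => hZ ?_
    have hmS : s * q * s⁻¹ * q⁻¹ ∈ (S : Subgroup G) :=
      mul_mem (mul_mem (mul_mem hs (hQS hq)) (inv_mem hs)) (inv_mem (hQS hq))
    refine ⟨hmS, Subgroup.mem_centralizer_iff.2 fun t ht => ?_⟩
    have h1 : ⁅⁅s, q⁆, t⁆ ∈ Subgroup.lowerCentralSeries (S : Subgroup G) 2 := by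
      rw [Subgroup.lowerCentralSeries_succ]
      refine Subgroup.commutator_mem_commutator ?_ ht
      rw [Subgroup.lowerCentralSeries_succ, Subgroup.lowerCentralSeries_zero]
      exact Subgroup.commutator_mem_commutator hs (hQS hq)
    rw [hcl, Subgroup.mem_bot, commutatorElement_eq_one_iff_mul_comm, commutatorElement_def] at h1
    exact h1.symm
  have hD2 : IsPGroup 2 D := by
    rw [IsPGroup.iff_card]
    by_contra hne
    obtain ⟨r, hr, hdvd, hr2⟩ : ∃ r, r.Prime ∧ r ∣ Nat.card D ∧ r ≠ 2 := by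
      by_contra hcon
      push Not at hcon
      exact hne ⟨_, Nat.eq_prime_pow_of_unique_prime_dvd Nat.card_pos.ne' fun {d} hd hdd => hcon d hd hdd⟩
    haveI : Fact r.Prime := ⟨hr⟩
    obtain ⟨y, hy⟩ := exists_prime_orderOf_dvd_card' r hdvd
    have hord : orderOf (y : G) = r := by rw [Subgroup.orderOf_coe, hy]
    have hcent : (y : G) ∈ Subgroup.centralizer (Q : Set G) := Subgroup.mem_centralizer_iff.2 fun q hq => by
      have hZy := hmem.1 y.2 q hq
      have hQy : (y : G) * q * (y : G)⁻¹ * q⁻¹ ∈ Q :=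
        mul_mem ((inferInstance : Q.Normal).conj_mem q hq y) (inv_mem hq)
      refine (CfsgLib.Coprime.commute_of_commute_commutator (Subgroup.mem_center_iff.1 hZy y)
        (CfsgLib.LocalP.coprime_orderOf_of_mem CfsgLib.Constrained.isPGroup_pCore hQy ?_)).symm
      rw [hord]; exact (Nat.coprime_primes hr Nat.prime_two).2 hr2
    obtain ⟨k, hk⟩ := IsPGroup.iff_orderOf.1 (CfsgLib.Constrained.isPGroup_pCore (p := 2) (G := G))
      ⟨y, hself hcent⟩
    rw [← Subgroup.orderOf_coe, hord] at hk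
    exact hr2 ((Nat.prime_dvd_prime_iff_eq hr Nat.prime_two).1
      (hr.dvd_of_dvd_pow (hk ▸ dvd_refl r : r ∣ 2 ^ k)))
  exact le_antisymm (hSD.trans (CfsgLib.Constrained.le_pCore inferInstance hD2)) hQS

/-- The case of a noncentral Sylow centre: the Thompson subgroup lies in the kernel `C` of the action
on the normal closure of `Ω₁Z(S)`. -/
theorem thompson_le_ker {G : Type u} [Group G] [Finite G] [Group.IsSolvable G]
    (hS4 : ¬ Cfsg.Involves (Equiv.Perm (Fin 4)) G) (S : Sylow 2 G) (W0 : Subgroup G) [W0.Normal]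
    (hW0c : ∀ a ∈ W0, ∀ b ∈ W0, a * b = b * a) (hW0e : ∀ a ∈ W0, a * a = 1)
    (hW0S : W0 ≤ S)
    (hO2 : ∀ T : Subgroup G, T.Normal → Subgroup.centralizer (W0 : Set G) ≤ T →
      (∃ k : ℕ, (Subgroup.centralizer (W0 : Set G)).relIndex T = 2 ^ k) →
      T ≤ Subgroup.centralizer (W0 : Set G)) :
    thompsonSubgroupOf 2 (S : Subgroup G) ≤ Subgroup.centralizer (W0 : Set G) := by
  classical
  haveI : Fact (Nat.Prime 2) := ⟨Nat.prime_two⟩
  set C := Subgroup.centralizer (W0 : Set G) with hC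
  rw [CfsgLib.LocalP.thompsonSubgroupOf_eq_sSup]
  refine sSup_le fun A hA => ?_
  by_contra hAC
  have hAel := CfsgLib.LocalP.isElementaryAbelian_iff.1 hA.2.1
  letI : CommGroup W0 := { (inferInstance : Group W0) with
    mul_comm := fun a b => Subtype.ext (hW0c a a.2 b b.2) }
  have hW : ∀ w : W0, w * w = 1 := fun w => Subtype.ext (hW0e w w.2)
  set φ : G →* MulAut W0 := MulAut.conjNormal with hφ
  set f := φ.rangeRestrict with hf
  set ψ : φ.range →* MulAut W0 := φ.range.subtype with hψ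
  have hker : f.ker = C := by
    ext g
    rw [hf, MonoidHom.ker_rangeRestrict, MonoidHom.mem_ker, hC, Subgroup.mem_centralizer_iff]
    constructor
    · intro h w hw
      have : (φ g ⟨w, hw⟩ : G) = w := by rw [h]; rfl
      rw [hφ, MulAut.conjNormal_apply] at this
      calc w * g = g * w * g⁻¹ * g := by rw [this]
        _ = g * w := by group
    · intro h
      ext w
      show (φ g w : G) = w
      rw [hφ, MulAut.conjNormal_apply, ← h w w.2, mul_inv_cancel_right]
  have hfs : Function.Surjective f := φ.rangeRestrict_surjective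
  haveI : Group.IsSolvable φ.range := Group.isSolvable_of_surjective hfs
  -- `O₂` of the image is trivial
  have hcore : pCore 2 φ.range = ⊥ := by
    have h1 := CfsgLib.Constrained.isPGroup_pCore (p := 2) (G := φ.range)
    obtain ⟨k, hk⟩ := IsPGroup.iff_card.1 h1
    haveI : (pCore 2 φ.range).Normal := inferInstance
    have hle : C ≤ (pCore 2 φ.range).comap f := hker ▸ Subgroup.ker_le_comap f _
    have hrel : C.relIndex ((pCore 2 φ.range).comap f) = 2 ^ k := by
      rw [← hker, Subgroup.relIndex_ker, Subgroup.map_comap_eq_self_of_surjective hfs, hk]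
    have h2 := hO2 _ inferInstance hle ⟨k, hrel⟩
    rw [eq_bot_iff, ← Subgroup.map_comap_eq_self_of_surjective hfs (pCore 2 φ.range), Subgroup.map_le_iff_le_comap]
    intro g hg
    rw [Subgroup.mem_comap, Subgroup.mem_bot, ← MonoidHom.mem_ker, hker]
    exact h2 hg
  set K := fittingSubgroup φ.range with hK
  haveI hKn : K.Normal := Subgroup.sSup_normal _ fun N hN => hN.1
  have hKodd : Odd (Nat.card K) := by
    rw [Nat.odd_iff]
    by_contra h
    obtain ⟨P2⟩ : Nonempty (Sylow 2 K) := inferInstance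
    have h1 := CfsgLib.Constrained.map_sylow_le_pCore hKn CfsgLib.Constrained.isNilpotent_fitting P2
    rw [hcore, le_bot_iff, Subgroup.map_eq_bot_iff_of_injective _ K.subtype_injective] at h1
    have h2 := P2.not_dvd_index
    rw [h1, Subgroup.index_bot] at h2
    omega
  set A' := A.map f with hA'
  have hA'faith : A' ⊓ Subgroup.centralizer (K : Set φ.range) = ⊥ := by
    rw [eq_bot_iff]
    rintro x ⟨⟨a, ha, rfl⟩, hx⟩
    have hxK : f a ∈ K := CfsgLib.Constrained.centralizer_fitting_le hx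
    refine Subgroup.mem_bot.2 (orderOf_eq_one_iff.1 ?_)
    have h1 : orderOf (f a) ∣ 2 := orderOf_dvd_of_pow_eq_one (by rw [← map_pow, hAel.2 a ha, map_one])
    have h2 := K.orderOf_dvd_natCard hxK
    exact Nat.eq_one_of_dvd_coprimes (Nat.coprime_two_left.2 hKodd) h1 h2
  obtain ⟨hle, hstruct⟩ := card_mul_fixed_le ψ φ.range.subtype_injective hW hKodd _ A' rfl
    (by
      rintro _ ⟨a, ha, rfl⟩ _ ⟨b, hb, rfl⟩
      rw [← map_mul, hAel.1 a ha b hb, map_mul])
    (by
      rintro _ ⟨a, ha, rfl⟩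
      rw [← map_mul, ← sq, hAel.2 a ha, map_one])
    (by rw [Subgroup.normalizer_eq_top]; exact le_top) hA'faith
  -- `A` is an offender
  have hoff : Nat.card W0 ≤ Nat.card A' * Nat.card (fixedSub ψ A') := by
    set D := A ⊓ C with hD
    have hDW : Nat.card ↥(D ⊔ W0) ≤ Nat.card A := by
      refine hA.2.2 _ (sup_le (inf_le_left.trans hA.1) hW0S) (CfsgLib.LocalP.isElementaryAbelian_sup
        (CfsgLib.LocalP.isElementaryAbelian_mono hA.2.1 inf_le_left)
        (CfsgLib.LocalP.isElementaryAbelian_iff.2 ⟨hW0c, fun a ha => by rw [sq, hW0e a ha]⟩) ?_)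
      exact fun d hd w hw => (Subgroup.mem_centralizer_iff.1 hd.2 w hw).symm
    have hcardA : Nat.card A = Nat.card D * Nat.card A' := by
      have h1 := Subgroup.relIndex_mul_relIndex ⊥ D A bot_le inf_le_left
      simp only [Subgroup.relIndex_bot_left] at h1
      rw [hD, Subgroup.inf_relIndex_left, ← hker, Subgroup.relIndex_ker] at h1
      rw [hD, ← hker]; exact h1.symm
    have hinf : Nat.card ↥(D ⊓ W0) ≤ Nat.card (fixedSub ψ A') := by
      refine Nat.card_le_card_of_injective
        (fun x => ⟨⟨x.1, x.2.2⟩, ?_⟩ : ↥(D ⊓ W0) → fixedSub ψ A') ?_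
      · rintro _ ⟨a, ha, rfl⟩
        refine Subtype.ext ?_
        show ((φ a) ⟨x.1, x.2.2⟩ : G) = x.1
        rw [hφ, MulAut.conjNormal_apply]
        rw [hAel.1 a ha _ x.2.1.1, mul_inv_cancel_right]
      · intro x y h
        exact Subtype.ext (congrArg (fun t : fixedSub ψ A' => ((t : W0) : G)) h)
    have h2 := CfsgLib.LocalP.card_mul_le_card_sup_mul_card_inf D W0
    have h3 : Nat.card D * Nat.card W0 ≤
        Nat.card D * (Nat.card A' * Nat.card (fixedSub ψ A')) := by
      rw [← mul_assoc, ← hcardA]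
      exact h2.trans (Nat.mul_le_mul hDW hinf)
    exact Nat.le_of_mul_le_mul_left h3 Nat.card_pos
  have hA'ne : A' ≠ ⊥ := fun h => hAC (hker ▸ (Subgroup.map_eq_bot_iff A).1 h)
  obtain ⟨-, ⟨a, haA, rfl⟩, x, hxK, hax, ⟨h, hh⟩, hah, hxh, hxxh⟩ :=
    hstruct hA'ne (le_antisymm hle hoff)
  obtain ⟨g, rfl⟩ := hfs x
  apply hS4
  have haa : a * a = 1 := by rw [← sq]; exact hAel.2 a haA
  have hai : a⁻¹ = a := inv_eq_of_mul_eq_one_right haa
  set v : W0 := ⟨h, hh⟩ with hv
  set X : MulAut W0 := φ g with hX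
  have hX' : ψ (f g) = X := rfl
  rw [hX'] at hxh hxxh
  have hX3 : X (X (X v)) = v := by
    rw [hxxh, map_mul, hxxh, mul_comm v, ← mul_assoc, hW, one_mul]
  have hy : φ (a * g * a⁻¹ * g⁻¹) = X⁻¹ * X⁻¹ := by
    have h1 : φ (a * g * a⁻¹) = X⁻¹ := by
      have := congrArg ψ hax
      rw [← map_mul f, ← map_inv f, ← map_mul f, ← map_inv f] at this
      rw [map_inv] at this
      exact this.trans (by rw [map_inv]; rfl)
    rw [map_mul, h1, map_inv]
  have hconj : ∀ w : W0, X (X (X w)) = w → ((φ (a * g * a⁻¹ * g⁻¹)) w : G) = X w := by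
    intro w hw
    rw [hy, MulAut.mul_apply]
    congr 1
    apply X.injective
    apply X.injective
    rw [MulAut.apply_inv_self, MulAut.apply_inv_self, hw]
  refine involves_perm_four (a := a) (y := a * g * a⁻¹ * g⁻¹) (h := h) (h1 := (X v : G)) haa
    (hW0e h hh) (fun h1 => hxh ?_) ?_ (fun h1 => hxh (Subtype.ext h1)) (hW0c h hh _ (X v).2) ?_ ?_ ?_
  · have hv1 : v = 1 := Subtype.ext h1
    rw [hv1, map_one]
  · rw [← hconj v hX3, hφ, MulAut.conjNormal_apply]
  · rw [← MulAut.conjNormal_apply, ← hφ, hconj (X v) (by rw [hX3]), hxxh]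
    rfl
  · have := congrArg Subtype.val hah
    rw [show (ψ (f a)) v = φ a v from rfl, hφ, MulAut.conjNormal_apply] at this
    exact this
  · simp only [mul_inv_rev, inv_inv, hai, mul_assoc, haa]
    rw [← mul_assoc a a, haa, one_mul]

/-- The factorization when `O(G) = 1`. -/
theorem thompson_normal (N : ℕ) : ∀ (G : Type u) [Group G] [Finite G] [Group.IsSolvable G],
    Nat.card G = N → ¬ Cfsg.Involves (Equiv.Perm (Fin 4)) G → pPrimeCore 2 G = ⊥ →
      ∀ S : Sylow 2 G, Subgroup.lowerCentralSeries (S : Subgroup G) 2 = ⊥ →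
        (⊤ : Subgroup G) ≤ Subgroup.normalizer (thompsonSubgroupOf 2 (S : Subgroup G) : Set G) := by
  haveI : Fact (Nat.Prime 2) := ⟨Nat.prime_two⟩
  induction N using Nat.strong_induction_on with
  | _ N ih =>
  intro G _ _ _ hN hS4 hO S hcl
  set Q := pCore 2 G with hQ
  haveI : Q.Normal := inferInstance
  have hQS : Q ≤ S := CfsgLib.CharP.pCore_le_sylow S
  have hself : Subgroup.centralizer (Q : Set G) ≤ Q := by
    have := CfsgLib.Constrained.centralizer_fitting_le (G := G)
    rwa [CfsgLib.Constrained.fitting_eq_pCore (p := 2) hO] at this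
  set ZS := (S : Subgroup G) ⊓ Subgroup.centralizer ((S : Subgroup G) : Set G) with hZS
  have hZQ : ZS ≤ Q := fun z hz => hself (Subgroup.mem_centralizer_iff.2 fun q hq =>
    Subgroup.mem_centralizer_iff.1 hz.2 q (hQS hq))
  by_cases hcase : ∀ z ∈ ZS, z * z = 1 → z ∈ Subgroup.center G
  · have hSQ := sylow_eq_pCore_of_central S hself hcl (sylow_center_central S hQS hZQ hcase)
    have hn : (S : Subgroup G).Normal := by rw [hSQ]; infer_instance
    exact le_trans (by rw [Subgroup.normalizer_eq_top]) (CfsgLib.LocalP.le_normalizer_thompsonSubgroupOf _)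
  set Z : Set G := {z | z ∈ ZS ∧ z * z = 1} with hZ
  set W0 := Subgroup.normalClosure Z with hW0
  set V : Subgroup G := Q ⊓ Subgroup.centralizer (Q : Set G) with hV
  have hVc : ∀ a ∈ V, ∀ b ∈ V, a * b = b * a := fun a ha b hb =>
    Subgroup.mem_centralizer_iff.1 hb.2 a ha.1
  let E : Subgroup G :=
    { carrier := {v | v ∈ V ∧ v * v = 1}
      one_mem' := ⟨one_mem _, one_mul _⟩
      mul_mem' := fun {a b} ha hb => ⟨mul_mem ha.1 hb.1, by
        rw [show a * b * (a * b) = a * (b * a) * b by group, hVc b hb.1 a ha.1,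
          show a * (a * b) * b = (a * a) * (b * b) by group, ha.2, hb.2, one_mul]⟩
      inv_mem' := fun {a} ha => ⟨inv_mem ha.1, by rw [← mul_inv_rev, ha.2, inv_one]⟩ }
  haveI : E.Normal := ⟨fun v hv g => ⟨(inferInstance : V.Normal).conj_mem v hv.1 g, by
    rw [show g * v * g⁻¹ * (g * v * g⁻¹) = g * (v * v) * g⁻¹ by group, hv.2]; group⟩⟩
  have hW0E : W0 ≤ E := Subgroup.normalClosure_le_normal fun z hz =>
    ⟨⟨hZQ hz.1, Subgroup.mem_centralizer_iff.2 fun q hq =>
      Subgroup.mem_centralizer_iff.1 hz.1.2 q (hQS hq)⟩, hz.2⟩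
  set C := Subgroup.centralizer (W0 : Set G) with hC
  have hSZ : ∀ s ∈ (S : Subgroup G), ∀ z ∈ Z, s * z = z * s := fun s hs z hz =>
    Subgroup.mem_centralizer_iff.1 hz.1.2 s hs
  have hCZ : ∀ x : G, x ∈ C ↔ ∀ (g : G), ∀ z ∈ Z, x * (g * z * g⁻¹) = g * z * g⁻¹ * x := by
    intro x
    constructor
    · intro hx g z hz
      exact (Subgroup.mem_centralizer_iff.1 hx _ (Subgroup.normalClosure_normal.conj_mem z
        (Subgroup.subset_normalClosure hz) g)).symm
    · intro hx
      refine Subgroup.mem_centralizer_iff.2 fun w hw => ?_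
      have : W0 ≤ Subgroup.centralizer ({x} : Set G) := by
        rw [hW0, Subgroup.normalClosure, Subgroup.closure_le]
        intro w hw
        obtain ⟨z, hz, hzw⟩ := Group.mem_conjugatesOfSet_iff.1 hw
        obtain ⟨g, rfl⟩ := isConj_iff.1 hzw
        exact Subgroup.mem_centralizer_singleton_iff.2 (hx g z hz).symm
      exact Subgroup.mem_centralizer_singleton_iff.1 (this hw)
  have hJC : thompsonSubgroupOf 2 (S : Subgroup G) ≤ C :=
    thompson_le_ker hS4 S W0 (fun a ha b hb => hVc a (hW0E ha).1 b (hW0E hb).1)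
      (fun a ha => (hW0E ha).2) (fun a ha => hQS (hW0E ha).1.1)
      fun T hT hle hk => by
        haveI := hT
        exact le_of_pGroup_image S hle hk Z hSZ hCZ
  -- the proper subgroup `C S`
  set M := C ⊔ (S : Subgroup G) with hM
  have hMlt : Nat.card M < N := by
    rw [← hN]
    refine lt_of_le_of_ne (Subgroup.card_le_card_group M) fun heq => hcase fun z hz hz2 => ?_
    have hMtop : M = ⊤ := Subgroup.eq_top_of_card_eq M heq
    have hle : M ≤ Subgroup.centralizer ({z} : Set G) := sup_le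
      (fun c hc => Subgroup.mem_centralizer_singleton_iff.2 (by
        have := (hCZ c).1 hc 1 z ⟨hz, hz2⟩
        simpa using this))
      (fun s hs => Subgroup.mem_centralizer_singleton_iff.2 (hSZ s hs z ⟨hz, hz2⟩))
    rw [hMtop] at hle
    exact Subgroup.mem_center_iff.2 fun g =>
      Subgroup.mem_centralizer_singleton_iff.1 (hle (Subgroup.mem_top g))
  have hSM : (S : Subgroup G) ≤ M := le_sup_right
  have hOM : pPrimeCore 2 M = ⊥ := by
    rw [eq_bot_iff]
    intro x hx
    haveI : (pPrimeCore 2 M).Normal := inferInstance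
    have hxC : (x : G) ∈ Q := by
      refine hself (Subgroup.mem_centralizer_iff.2 fun q hq => ?_)
      have hd := CfsgLib.Constrained.disjoint_of_isPGroup_of_not_dvd (p := 2)
        (CfsgLib.Constrained.isPGroup_pCore (p := 2) (G := M))
        (CfsgLib.Constrained.pPrimeCore_not_dvd (p := 2) (G := M))
      have hqQ : (⟨q, hSM (hQS hq)⟩ : M) ∈ pCore 2 M := by
        refine CfsgLib.Constrained.le_pCore (N := Q.subgroupOf M) inferInstance ?_ hq
        exact (CfsgLib.Constrained.isPGroup_pCore (p := 2) (G := G)).comap_of_injective M.subtype M.subtype_injective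
      exact (congrArg Subtype.val (CfsgLib.Constrained.commute_pCore_pPrimeCore hqQ hx) :)
    have h1 : orderOf x ∣ Nat.card (pPrimeCore 2 M) := Subgroup.orderOf_dvd_natCard _ hx
    obtain ⟨k, hk⟩ := IsPGroup.iff_orderOf.1 (CfsgLib.Constrained.isPGroup_pCore (p := 2) (G := G)) ⟨x, hxC⟩
    rw [Subgroup.orderOf_mk, Subgroup.orderOf_coe] at hk
    refine Subgroup.mem_bot.2 (orderOf_eq_one_iff.1 ?_)
    have hcop : (2 ^ k).Coprime (Nat.card (pPrimeCore 2 M)) :=
      ((Nat.Prime.coprime_iff_not_dvd Nat.prime_two).2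
        (CfsgLib.Constrained.pPrimeCore_not_dvd (p := 2) (G := M))).pow_left k
    exact Nat.eq_one_of_dvd_coprimes hcop (dvd_of_eq hk) h1
  set SM : Sylow 2 M := S.subtype hSM with hSMdef
  have hmapS : (SM : Subgroup M).map M.subtype = (S : Subgroup G) := by
    rw [hSMdef, Sylow.coe_subtype, Subgroup.map_subgroupOf_eq_of_le hSM]
  have hclM : Subgroup.lowerCentralSeries (SM : Subgroup M) 2 = ⊥ := by
    rw [← Subgroup.map_eq_bot_iff_of_injective _ M.subtype_injective, Subgroup.map_lowerCentralSeries,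
      hmapS, hcl]
  have hJM := ih _ hMlt M rfl (fun h => hS4 (involves_of_subgroup M h)) hOM SM hclM
  have hJ : thompsonSubgroupOf 2 (S : Subgroup G) =
      (thompsonSubgroupOf 2 (SM : Subgroup M)).map M.subtype := by
    rw [← hmapS, CfsgLib.LocalP.thompsonSubgroupOf_map _ M.subtype_injective]
  have hMN : M ≤ Subgroup.normalizer (thompsonSubgroupOf 2 (S : Subgroup G) : Set G) := by
    refine CfsgLib.Coprime.le_normalizer_of_conj_mem fun m hm j hj => ?_
    rw [hJ] at hj ⊢
    obtain ⟨j, hj', rfl⟩ := hj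
    exact ⟨⟨m, hm⟩ * j * ⟨m, hm⟩⁻¹,
      (Subgroup.mem_normalizer_iff.1 (hJM (Subgroup.mem_top ⟨m, hm⟩)) j).1 hj', rfl⟩
  haveI : C.Normal := inferInstance
  rw [← CfsgLib.GlaubermanZJ.normalizer_inf_sup_eq_top S C]
  refine sup_le ?_ (le_sup_left.trans hMN)
  rw [← CfsgLib.LocalP.thompsonSubgroupOf_eq_of_le (Q := (S : Subgroup G) ⊓ C) inf_le_left
    (le_inf (CfsgLib.LocalP.thompsonSubgroupOf_le _) hJC)]
  exact CfsgLib.LocalP.le_normalizer_thompsonSubgroupOf _

/-- Thompson factorization `G = N_G(J(S)) O(G)`. -/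
theorem thompson_factorization {G : Type u} [Group G] [Finite G] [Group.IsSolvable G]
    (hS4 : ¬ Cfsg.Involves (Equiv.Perm (Fin 4)) G) (S : Sylow 2 G)
    (hcl : Subgroup.lowerCentralSeries (S : Subgroup G) 2 = ⊥) :
    Subgroup.normalizer ((thompsonSubgroupOf 2 (S : Subgroup G)) : Set G) ⊔ pPrimeCore 2 G = ⊤ := by
  haveI : Fact (Nat.Prime 2) := ⟨Nat.prime_two⟩
  set O := pPrimeCore 2 G with hO
  haveI : O.Normal := inferInstance
  set f := QuotientGroup.mk' O with hf
  have hfs : Function.Surjective f := QuotientGroup.mk'_surjective O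
  set S' := S.mapSurjective hfs with hS'
  have hcoe : (S' : Subgroup (G ⧸ O)) = (S : Subgroup G).map f := Sylow.coe_mapSurjective hfs S
  have hcl' : Subgroup.lowerCentralSeries (S' : Subgroup (G ⧸ O)) 2 = ⊥ := by
    rw [hcoe, ← Subgroup.map_lowerCentralSeries, hcl, Subgroup.map_bot]
  have hJ' := thompson_normal _ (G ⧸ O) rfl (fun h => hS4 (involves_of_quotient O h))
    CfsgLib.Constrained.pPrimeCore_quotient_pPrimeCore S' hcl'
  have hinj : Function.Injective (f.comp (S : Subgroup G).subtype) := by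
    rw [injective_iff_map_eq_one]
    intro x hx
    have hxO : (x : G) ∈ O := (QuotientGroup.eq_one_iff _).1 hx
    obtain ⟨k, hk⟩ := IsPGroup.iff_orderOf.1 S.isPGroup' x
    refine orderOf_eq_one_iff.1 (Nat.eq_one_of_dvd_coprimes ?_ (dvd_of_eq hk)
      (Subgroup.orderOf_coe x ▸ O.orderOf_dvd_natCard hxO))
    exact ((Nat.Prime.coprime_iff_not_dvd Nat.prime_two).2
      (CfsgLib.Constrained.pPrimeCore_not_dvd (p := 2) (G := G))).pow_left k
  set J := thompsonSubgroupOf 2 (S : Subgroup G) with hJdef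
  have hJmap : thompsonSubgroupOf 2 (S' : Subgroup (G ⧸ O)) = J.map f := by
    have h1 := CfsgLib.LocalP.thompsonSubgroupOf_map (p := 2) (f.comp (S : Subgroup G).subtype) hinj ⊤
    rw [← Subgroup.map_map, ← MonoidHom.range_eq_map, Subgroup.range_subtype,
      CfsgLib.LocalP.thompsonSubgroupOf_top, ← Subgroup.map_map] at h1
    rw [hcoe]
    exact h1
  have hnorm : (J.map f).Normal := ⟨fun x hx g => by
    rw [hJmap] at hJ'
    exact (Subgroup.mem_normalizer_iff.1 (hJ' (Subgroup.mem_top g)) x).1 hx⟩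
  set T : Subgroup G := (J.map f).comap f with hT
  haveI : T.Normal := by rw [hT]; infer_instance
  have hST : (S : Subgroup G) ⊓ T = J := by
    refine le_antisymm ?_ (le_inf (CfsgLib.LocalP.thompsonSubgroupOf_le _) (Subgroup.le_comap_map f J))
    rintro x ⟨hxS, j, hj, hjx⟩
    have : (⟨j, CfsgLib.LocalP.thompsonSubgroupOf_le _ hj⟩ : (S : Subgroup G)) = ⟨x, hxS⟩ := hinj hjx
    have e : j = x := congrArg Subtype.val this
    exact e ▸ hj
  have := CfsgLib.GlaubermanZJ.normalizer_inf_sup_eq_top S T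
  rw [hST] at this
  rw [eq_top_iff, ← this]
  refine sup_le le_sup_left ?_
  rw [hT, Subgroup.comap_map_eq, hf, QuotientGroup.ker_mk']
  exact sup_le (Subgroup.le_normalizer.trans le_sup_left) le_sup_right

end CfsgLib.Offender
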